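import Groth.Agent.An.H866.EtLH
import Groth.Agent.An.H868.Chart

/-!
# Complex points of the affine line over an affine open

For `S` over `ℂ`, `U ⊆ S` affine and `Z = Spec Γ(S, U)[T]`, the map `Z(ℂ) → S(ℂ) × ℂ` given by the projection
and the value of `T` is an open embedding.  As a consequence an étale coordinate on a relative curve
`f : X ⟶ S` gives an open embedding `(f, t)` near each point.
-/

set_option autoImplicit false
open CategoryTheory AlgebraicGeometry Topology TopologicalSpace Opposite Filter Polynomial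
open Groth.Agent.An.H863.PtsBasic Groth.Agent.An.H863.PtsCont Groth.Agent.An.H868.Chart

noncomputable section

namespace Groth.Agent.An.H899.Line

variable {S : Scheme.{0}} {U : S.Opens} (hU : IsAffineOpen U)

/-- The affine line over an affine open. -/
abbrev Z (U : S.Opens) : Scheme.{0} := Spec (CommRingCat.of (Γ(S, U))[X])

/-- The projection of the affine line over an affine open. -/
def proj : Z U ⟶ S :=
  Spec.map (CommRingCat.ofHom (C : Γ(S, U) →+* (Γ(S, U))[X])) ≫ hU.fromSpec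

lemma top_le : (⊤ : (Z U).Opens) ≤ proj hU ⁻¹ᵁ U := by
  intro p _
  have : hU.fromSpec (Spec.map (CommRingCat.ofHom (C : Γ(S, U) →+* (Γ(S, U))[X])) p) ∈ (U : Set S) := by
    rw [← hU.range_fromSpec]
    exact ⟨_, rfl⟩
  exact this

lemma proj_appLE : (proj hU).appLE U ⊤ (top_le hU) =
    CommRingCat.ofHom (C : Γ(S, U) →+* (Γ(S, U))[X]) ≫
      (Scheme.ΓSpecIso (CommRingCat.of (Γ(S, U))[X])).inv := by
  unfold proj
  rw [← Scheme.Hom.appLE_comp_appLE _ _ U ⊤ ⊤ (by rw [hU.fromSpec_preimage_self]) le_top]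
  rw [Scheme.Hom.appLE, hU.fromSpec_app_self]
  have h3 : (Spec.map (CommRingCat.ofHom (C : Γ(S, U) →+* (Γ(S, U))[X]))).appLE ⊤ ⊤ le_top =
      (Spec.map (CommRingCat.ofHom (C : Γ(S, U) →+* (Γ(S, U))[X]))).appTop := by
    simp [Scheme.Hom.appLE, Scheme.Hom.appTop]
  have h4 := Scheme.ΓSpecIso_inv_naturality (CommRingCat.ofHom (C : Γ(S, U) →+* (Γ(S, U))[X]))
  simp only [Category.assoc, Scheme.Hom.map_appLE]
  rw [h3, h4]
  rfl

/-- The inclusion of polynomials in the global sections of the affine line. -/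
def incl (U : S.Opens) : (Γ(S, U))[X] →+* Γ(Z U, ⊤) :=
  (Scheme.ΓSpecIso (CommRingCat.of (Γ(S, U))[X])).inv.hom

lemma incl_apply (U : S.Opens) (p : (Γ(S, U))[X]) : incl U p =
    ConcreteCategory.hom (Scheme.ΓSpecIso (CommRingCat.of (Γ(S, U))[X])).inv p := rfl

lemma incl_bijective (U : S.Opens) : Function.Bijective (incl U) :=
  ConcreteCategory.bijective_of_isIso (Scheme.ΓSpecIso (CommRingCat.of (Γ(S, U))[X])).inv

lemma proj_appLE_apply (a : Γ(S, U)) : (proj hU).appLE U ⊤ (top_le hU) a = incl U (C a) := by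
  rw [proj_appLE]
  rfl

variable [S.Over An.SC]

/-- The affine line over an affine open, as a scheme over `ℂ`. -/
@[reducible] def zOver : (Z U).Over An.SC := ⟨proj hU ≫ S ↘ An.SC⟩

/-- The value of the coordinate and the projection. -/
theorem exists_homeomorph : letI := zOver hU; letI : (proj hU).IsOver An.SC := ⟨rfl⟩
    ∃ θ : An.Pts (Z U) ≃ₜ {y : An.Pts S // y.pt ∈ U} × ℂ,
      ∀ z, ((θ z).1 : An.Pts S) = An.Pts.map (proj hU) z ∧ (θ z).2 = z.evTop (incl U X) := by
  let _ := zOver hU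
  let _ : (proj hU).IsOver An.SC := ⟨rfl⟩
  have hmem : ∀ z : An.Pts (Z U), (An.Pts.map (proj hU) z).pt ∈ U := fun z => by
    rw [An.Pts.pt_map]; exact top_le hU (Opens.mem_top _)
  have hC : ∀ (z : An.Pts (Z U)) (a : Γ(S, U)), z.evTop (incl U (C a)) =
      (An.Pts.map (proj hU) z).ev U (hmem z) a := fun z a => by
    have h1 := Groth.Agent.An.H863.PtsPullback.evAt_appLE (proj hU) z U ⊤ (top_le hU) (Opens.mem_top _) a
    rw [proj_appLE_apply, evAt_of_mem (hmem z), evAt_top] at h1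
    exact h1
  let e : (Γ(S, U))[X] ≃+* Γ(Z U, ⊤) := RingEquiv.ofBijective (incl U) (incl_bijective U)
  let χ : ({y : An.Pts S // y.pt ∈ U} × ℂ) → (Γ(Z U, ⊤) →+* ℂ) := fun q =>
    (eval₂RingHom (evHom q.1.1 U q.1.2) q.2).comp e.symm.toRingHom
  have hχe : ∀ q p, χ q (incl U p) = eval₂ (evHom q.1.1 U q.1.2) q.2 p := fun q p => by
    change eval₂ _ _ (e.symm (e p)) = _
    rw [e.symm_apply_apply]
  have hχ : ∀ q c, χ q (strU ⊤ c) = c := fun q c => by
    have h1 := Groth.Agent.An.H866.EtLH.appLE_strU (proj hU) U ⊤ (top_le hU) c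
    rw [proj_appLE_apply] at h1
    rw [← h1, hχe, eval₂_C]
    exact ev_strU q.1.1 U q.1.2 c
  have hχc : ∀ f, Continuous fun q => χ q f := fun f => by
    obtain ⟨p, rfl⟩ := (incl_bijective U).2 f
    simp only [hχe]
    rw [continuous_iff_continuousAt]
    intro q₀
    have h := Groth.Agent.An.H866.EtLH.continuousAt_eval₂ (T := {y : An.Pts S // y.pt ∈ U} × ℂ) U
      (fun q => q.1.1) q₀ (fun q => q.1.2) (continuous_subtype_val.comp continuous_fst).continuousAt
      (fun q => q.2) continuous_snd.continuousAt p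
    exact h
  let ψ : ({y : An.Pts S // y.pt ∈ U} × ℂ) → An.Pts (Z U) := fun q =>
    ofChart (isAffineOpen_top (Z U)) (χ q) (hχ q)
  have hψc : Continuous ψ := continuous_ofChart (isAffineOpen_top (Z U)) χ hχ hχc
  have hψev : ∀ q f, (ψ q).evTop f = χ q f := fun q f => ev_ofChart _ _ _ _ _
  refine ⟨{
    toFun := fun z => (⟨An.Pts.map (proj hU) z, hmem z⟩, z.evTop (incl U X))
    invFun := ψ
    left_inv := fun z => ?_
    right_inv := fun q => ?_
    continuous_toFun := ?_
    continuous_invFun := hψc }, fun z => ⟨rfl, rfl⟩⟩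
  · refine ext_of_ev (isAffineOpen_top (Z U)) (Opens.mem_top _) (Opens.mem_top _) fun f => ?_
    obtain ⟨p, rfl⟩ := (incl_bijective U).2 f
    change (ψ _).evTop _ = z.evTop _
    rw [hψev, hχe]
    have h2 : (evHom z ⊤ (Opens.mem_top _)).comp (incl U) =
        eval₂RingHom (evHom (An.Pts.map (proj hU) z) U (hmem z)) (z.evTop (incl U X)) := by
      refine Polynomial.ringHom_ext (fun a => ?_) ?_
      · rw [coe_eval₂RingHom, eval₂_C]
        exact hC z a
      · rw [coe_eval₂RingHom, eval₂_X]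
        rfl
    exact (DFunLike.congr_fun h2 p).symm
  · have h3 : (ψ q).evTop (incl U X) = q.2 := by rw [hψev, hχe, eval₂_X]
    refine Prod.ext (Subtype.ext ?_) h3
    refine ext_of_ev hU (hmem _) q.1.2 fun a => ?_
    change (An.Pts.map (proj hU) (ψ q)).ev U _ a = _
    rw [← hC, hψev, hχe, eval₂_C]
    rfl
  · exact ((An.Pts.continuous_map (proj hU)).subtype_mk _).prodMk (continuous_evTop _)

include hU in
/-- Near each complex point in the domain of an étale coordinate `t` on a relative curve, the map `(f, t)` is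
an open partial homeomorphism. -/
theorem exists_chart {X : Scheme.{0}} [X.Over An.SC] (f : X ⟶ S) [f.IsOver An.SC]
    {V : X.Opens} (hV : IsAffineOpen V) (e : V ≤ f ⁻¹ᵁ U) (g : (Γ(S, U))[X] →+* Γ(X, V))
    (hg : g.comp C = (f.appLE U V e).hom) (het : g.Etale) (x : An.Pts X) (hx : x.pt ∈ V) :
    ∃ φ : OpenPartialHomeomorph (An.Pts X) (An.Pts S × ℂ), x ∈ φ.source ∧
      ∀ z ∈ φ.source, z.pt ∈ V ∧ φ z = (An.Pts.map f z, evAt z V (g Polynomial.X)) := by
  let _ := zOver hU
  let _ : (proj hU).IsOver An.SC := ⟨rfl⟩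
  obtain ⟨θ, hθ⟩ := exists_homeomorph hU
  let k : V.toScheme ⟶ Z U := hV.isoSpec.hom ≫ Spec.map (CommRingCat.ofHom g)
  have hk : k ≫ proj hU = V.ι ≫ f := by
    change (hV.isoSpec.hom ≫ Spec.map (CommRingCat.ofHom g)) ≫ Spec.map (CommRingCat.ofHom
      (C : Γ(S, U) →+* (Γ(S, U))[X])) ≫ hU.fromSpec = _
    rw [Category.assoc, ← Spec.map_comp_assoc, ← CommRingCat.ofHom_comp, hg, CommRingCat.ofHom_hom,
      IsAffineOpen.SpecMap_appLE_fromSpec f hU hV e, IsAffineOpen.isoSpec_hom_fromSpec_assoc]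
  have hkO : k.IsOver An.SC := ⟨by
    change k ≫ proj hU ≫ S ↘ An.SC = V.ι ≫ X ↘ An.SC
    rw [← Category.assoc, hk, Category.assoc, comp_over f]⟩
  have hket : Etale k := by
    have h1 : Etale (Spec.map (CommRingCat.ofHom g)) := by
      rw [HasRingHomProperty.Spec_iff (P := @Etale), CommRingCat.hom_ofHom]
      exact het
    infer_instance
  have hkloc := Groth.Agent.An.H866.EtLH.isLocalHomeomorph_map k
  have hιe : IsOpenEmbedding (An.Pts.map V.ι) := Groth.Agent.An.H871.Imm.isOpenEmbedding_map V.ι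
  have hmemV : ∀ z : An.Pts V.toScheme, (An.Pts.map V.ι z).pt ∈ V := fun z => by
    rw [An.Pts.pt_map]; exact z.pt.2
  -- the value of the coordinate
  have hval : ∀ z : An.Pts V.toScheme, (An.Pts.map k z).evTop (incl U Polynomial.X) =
      evAt (An.Pts.map V.ι z) V (g Polynomial.X) := fun z => by
    have h1 := Groth.Agent.An.H863.PtsPullback.evAt_appLE V.ι z V ⊤
      (by rw [Scheme.Opens.ι_preimage_self]) (Opens.mem_top _) (g Polynomial.X)
    rw [← h1, evAt_top]
    have h2 := An.Pts.ev_map k z ⊤ (Opens.mem_top _) (incl U Polynomial.X)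
    change (An.Pts.map k z).ev ⊤ _ (incl U Polynomial.X) = z.ev ⊤ _ _
    rw [h2]
    change z.ev ⊤ _ (k.appTop (incl U Polynomial.X)) = _
    congr 1
    have h3 : (Scheme.ΓSpecIso (CommRingCat.of (Γ(S, U))[X])).inv ≫ k.appTop =
        CommRingCat.ofHom g ≫ V.ι.appLE V ⊤ (by rw [Scheme.Opens.ι_preimage_self]) := by
      have h4 := Scheme.ΓSpecIso_inv_naturality (CommRingCat.ofHom g)
      change _ ≫ (hV.isoSpec.hom ≫ Spec.map (CommRingCat.ofHom g)).appTop = _
      rw [Scheme.Hom.comp_appTop, ← reassoc_of% h4, IsAffineOpen.isoSpec_hom_appTop,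
        Scheme.Opens.ι_appLE]
      change CommRingCat.ofHom g ≫ (Scheme.ΓSpecIso Γ(X, V)).inv ≫ (Scheme.ΓSpecIso Γ(X, V)).hom ≫
        V.topIso.inv = _
      rw [Iso.inv_hom_id_assoc]
      rfl
    have h5 := ConcreteCategory.congr_hom h3 Polynomial.X
    rw [CommRingCat.comp_apply, CommRingCat.comp_apply] at h5
    rw [CommRingCat.ofHom_apply, ← incl_apply] at h5
    exact h5
  have hval1 : ∀ z : An.Pts V.toScheme, An.Pts.map (proj hU) (An.Pts.map k z) =
      An.Pts.map f (An.Pts.map V.ι z) := fun z => by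
    apply Subtype.ext
    change (z.1 ≫ k) ≫ proj hU = (z.1 ≫ V.ι) ≫ f
    rw [Category.assoc, hk, Category.assoc]
  have hj : IsOpenEmbedding (fun q : {y : An.Pts S // y.pt ∈ U} × ℂ => ((q.1.1, q.2) : An.Pts S × ℂ)) :=
    ((An.Pts.isOpen_preimage_pt U).isOpenEmbedding_subtypeVal).prodMap IsOpenEmbedding.id
  have hloc : IsLocalHomeomorph ((fun q : {y : An.Pts S // y.pt ∈ U} × ℂ =>
      ((q.1.1, q.2) : An.Pts S × ℂ)) ∘ θ ∘ An.Pts.map k) :=
    hj.isLocalHomeomorph.comp (θ.isLocalHomeomorph.comp hkloc)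
  obtain ⟨x', hx'⟩ : ∃ x', An.Pts.map V.ι x' = x := by
    have : x ∈ Set.range (An.Pts.map V.ι) := by
      rw [Groth.Agent.An.H871.Imm.range_map_ι]
      exact hx
    exact this
  obtain ⟨ε, hxε, hε⟩ := hloc x'
  have hne : Nonempty (An.Pts V.toScheme) := ⟨x'⟩
  let ι' := hιe.toOpenPartialHomeomorph
  have hι' : ∀ z, ι' z = An.Pts.map V.ι z := fun z => rfl
  have hsrc : ι'.source = Set.univ := rfl
  refine ⟨ι'.symm.trans ε, ?_, ?_⟩
  · rw [OpenPartialHomeomorph.trans_source, OpenPartialHomeomorph.symm_source]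
    have h1 : x ∈ ι'.target := by
      rw [← hx', ← hι']
      exact ι'.map_source (by rw [hsrc]; trivial)
    have h2 : ι'.symm x = x' := by
      rw [← hx', ← hι']
      exact ι'.left_inv (by rw [hsrc]; trivial)
    exact ⟨h1, by rw [Set.mem_preimage, h2]; exact hxε⟩
  · intro z hz
    rw [OpenPartialHomeomorph.trans_source, OpenPartialHomeomorph.symm_source] at hz
    obtain ⟨z', rfl⟩ : ∃ z', An.Pts.map V.ι z' = z := ⟨ι'.symm z, by
      rw [← hι']; exact ι'.right_inv hz.1⟩
    refine ⟨hmemV z', ?_⟩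
    have h2 : ι'.symm (An.Pts.map V.ι z') = z' := by
      rw [← hι']
      exact ι'.left_inv (by rw [hsrc]; trivial)
    rw [OpenPartialHomeomorph.coe_trans, Function.comp_apply, h2, ← hε]
    change (((θ (An.Pts.map k z')).1 : An.Pts S), (θ (An.Pts.map k z')).2) = _
    rw [(hθ _).1, (hθ _).2, hval, hval1]

end Groth.Agent.An.H899.Line
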