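import Groth.Agent.An.H554.LocTriv
import Mathlib.Topology.SeparatedMap
import Mathlib.Topology.OpenPartialHomeomorph.Composition
import Mathlib.Topology.OpenPartialHomeomorph.Constructions
import Mathlib.Topology.LocalAtTarget

/-!
# Local triviality over a locally Hausdorff base

The theorem `Groth.Agent.An.H554.LocTriv.exists_trivialization` for a separated map over a base in which the point
has a Hausdorff open neighbourhood, and a lemma on restricting homeomorphisms to embedded subspaces.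
-/

set_option autoImplicit false

open Filter Topology Set Metric
open Groth.Agent.An.H554.LocTriv

namespace Groth.Agent.An.H899.LocTrivSep

/-- Restriction of a homeomorphism to embedded subspaces which correspond to each other. -/
theorem exists_homeomorph_of_isEmbedding {A B P Q : Type*} [TopologicalSpace A] [TopologicalSpace B]
    [TopologicalSpace P] [TopologicalSpace Q] {α : A → P} {β : B → Q} (hα : IsEmbedding α)
    (hβ : IsEmbedding β) (h : P ≃ₜ Q) (hr : ∀ p, p ∈ range α ↔ h p ∈ range β) :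
    ∃ e : A ≃ₜ B, ∀ a, β (e a) = h (α a) := by
  let e₁ : A ≃ₜ range α := hα.toHomeomorph
  let e₂ : B ≃ₜ range β := hβ.toHomeomorph
  let e₃ : range α ≃ₜ range β := h.subtype hr
  refine ⟨(e₁.trans e₃).trans e₂.symm, fun a => ?_⟩
  have h1 : e₂ (e₂.symm (e₃ (e₁ a))) = e₃ (e₁ a) := e₂.apply_symm_apply _
  have h2 := congrArg Subtype.val h1
  exact h2

variable {E B V : Type*} [TopologicalSpace E] [TopologicalSpace B] [NormedAddCommGroup V] [NormedSpace ℝ V]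
  {π : E → B} {b₀ : B} {Y : Set E} {𝒞 : Set (OpenPartialHomeomorph E (B × V))}

/-- Restriction of a chart over `B` to an open subset of `B`. -/
theorem exists_restrict (hπ : Continuous π) {T : Set B} (hT : IsOpen T) {φ : OpenPartialHomeomorph E (B × V)}
    (hφ : ∀ x ∈ φ.source, (φ x).1 = π x) (e : ↥(π ⁻¹' T)) (he : (e : E) ∈ φ.source) :
    ∃ ψ : OpenPartialHomeomorph ↥(π ⁻¹' T) (↥T × V), e ∈ ψ.source ∧
      ∀ z ∈ ψ.source, (z : E) ∈ φ.source ∧ ((ψ z).1 : B) = π z ∧ (ψ z).2 = (φ z).2 := by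
  have hι : IsOpenEmbedding (Subtype.val : ↥(π ⁻¹' T) → E) := (hT.preimage hπ).isOpenEmbedding_subtypeVal
  have hj : IsOpenEmbedding (fun q : ↥T × V => ((q.1 : B), q.2)) :=
    hT.isOpenEmbedding_subtypeVal.prodMap IsOpenEmbedding.id
  have hne : Nonempty ↥(π ⁻¹' T) := ⟨e⟩
  have hne' : Nonempty (↥T × V) := ⟨(⟨π e, e.2⟩, 0)⟩
  let ι := hι.toOpenPartialHomeomorph
  let j := hj.toOpenPartialHomeomorph
  have hιv : ∀ z, ι z = (z : E) := fun z => rfl
  have hjv : ∀ q, j q = ((q.1 : B), q.2) := fun q => rfl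
  have hιs : ι.source = univ := rfl
  have hjs : j.source = univ := rfl
  have hjt : ∀ z : ↥(π ⁻¹' T), (z : E) ∈ φ.source →
      φ z = j (⟨π z, z.2⟩, (φ z).2) := fun z hz => by
    rw [hjv]
    exact Prod.ext (hφ z hz) rfl
  refine ⟨ι.trans (φ.trans j.symm), ?_, ?_⟩
  · rw [OpenPartialHomeomorph.trans_source, OpenPartialHomeomorph.trans_source,
      OpenPartialHomeomorph.symm_source, hιs]
    refine ⟨trivial, ?_⟩
    rw [mem_preimage, hιv]
    refine ⟨he, ?_⟩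
    rw [mem_preimage, hjt e he]
    exact j.map_source (by rw [hjs]; trivial)
  · intro z hz
    rw [OpenPartialHomeomorph.trans_source, OpenPartialHomeomorph.trans_source,
      OpenPartialHomeomorph.symm_source, hιs] at hz
    have hz1 : (z : E) ∈ φ.source := hz.2.1
    have h1 : (ι.trans (φ.trans j.symm)) z = (⟨π z, z.2⟩, (φ z).2) := by
      change j.symm (φ (ι z)) = _
      rw [hιv, hjt z hz1]
      exact j.left_inv (by rw [hjs]; trivial)
    rw [h1]
    exact ⟨hz1, rfl, rfl⟩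

/-- **Local triviality**, for a separated closed map and a point with a Hausdorff open neighbourhood. -/
theorem exists_trivialization_of_isSeparatedMap [ProperSpace V] (hA : Atlas π b₀ Y 𝒞)
    (hπ : Continuous π) (hcl : IsClosedMap π) (hsep : IsSeparatedMap π) (hc : IsCompact (π ⁻¹' {b₀}))
    (hY : IsClosed Y) (T : Set B) (hT : IsOpen T) (hb : b₀ ∈ T) (hT2 : T2Space ↥T) :
    ∃ U : Set B, IsOpen U ∧ b₀ ∈ U ∧ ∃ h : ↥(π ⁻¹' U) ≃ₜ ↥U × ↥(π ⁻¹' {b₀}),
      (∀ z : ↥(π ⁻¹' U), ((h z).1 : B) = π z) ∧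
      (∀ z : ↥(π ⁻¹' U), (z : E) ∈ Y ↔ ((h z).2 : E) ∈ Y) ∧
      ∀ z : ↥(π ⁻¹' U), π z = b₀ → ((h z).2 : E) = z := by
  let π₀ : ↥(π ⁻¹' T) → ↥T := T.restrictPreimage π
  have hπ₀ : Continuous π₀ := hπ.restrictPreimage
  have hcl₀ : IsClosedMap π₀ := hcl.restrictPreimage T
  have hT2E : T2Space ↥(π ⁻¹' T) := by
    refine ⟨fun x y hxy => ?_⟩
    by_cases h : π x = π y
    · obtain ⟨u, v, hu, hv, hxu, hyv, huv⟩ := hsep x y h (fun h => hxy (Subtype.ext h))
      exact ⟨Subtype.val ⁻¹' u, Subtype.val ⁻¹' v, hu.preimage continuous_subtype_val,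
        hv.preimage continuous_subtype_val, hxu, hyv, huv.preimage _⟩
    · have hne : π₀ x ≠ π₀ y := fun h' => h (congrArg Subtype.val h')
      obtain ⟨u, v, hu, hv, hxu, hyv, huv⟩ := hT2.t2 hne
      exact ⟨π₀ ⁻¹' u, π₀ ⁻¹' v, hu.preimage hπ₀, hv.preimage hπ₀, hxu, hyv, huv.preimage _⟩
  let b₁ : ↥T := ⟨b₀, hb⟩
  have hfib : ∀ z : ↥(π ⁻¹' T), π₀ z = b₁ ↔ π z = b₀ := fun z =>
    ⟨fun h => congrArg Subtype.val h, fun h => Subtype.ext h⟩
  have hc₀ : IsCompact (π₀ ⁻¹' {b₁}) := by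
    rw [Subtype.isCompact_iff]
    convert hc using 1
    ext z
    constructor
    · rintro ⟨w, hw, rfl⟩
      exact (hfib w).1 hw
    · intro hz
      have hz' : π z = b₀ := hz
      exact ⟨⟨z, by rw [mem_preimage, hz']; exact hb⟩, (hfib _).2 hz, rfl⟩
  let Y₀ : Set ↥(π ⁻¹' T) := Subtype.val ⁻¹' Y
  have hY₀ : IsClosed Y₀ := hY.preimage continuous_subtype_val
  let 𝒞₀ : Set (OpenPartialHomeomorph ↥(π ⁻¹' T) (↥T × V)) :=
    {ψ | ∃ φ ∈ 𝒞, ∀ z ∈ ψ.source, (z : E) ∈ φ.source ∧ ((ψ z).1 : B) = π z ∧ (ψ z).2 = (φ z).2}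
  have hA₀ : Atlas π₀ b₁ Y₀ 𝒞₀ := by
    refine ⟨?_, ?_, ?_, ?_⟩
    · rintro ψ ⟨φ, hφ, h⟩ x hx
      exact Subtype.ext (h x hx).2.1
    · intro e he
      obtain ⟨φ, hφ, heφ⟩ := hA.cover e ((hfib e).1 he)
      obtain ⟨ψ, hψ, h⟩ := exists_restrict hπ hT (hA.fst φ hφ) e heφ
      exact ⟨ψ, ⟨φ, hφ, h⟩, hψ⟩
    · rintro ψ ⟨φ, hφ, h⟩
      rcases hA.Ysub φ hφ with h1 | h1
      · exact Or.inl fun x hx => h1 x (h x hx).1
      · refine Or.inr fun x hx => ?_
        rw [(h x hx).2.2]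
        exact h1 x (h x hx).1
    · rintro ψ ⟨φ, hφ, h⟩ ψ' ⟨φ', hφ', h'⟩ e he heψ heψ'
      obtain ⟨L, hL⟩ := hA.trans φ hφ φ' hφ' e ((hfib e).1 he) (h e heψ).1 (h' e heψ').1
      refine ⟨L, ?_⟩
      have hL' : FibStrict π₀ (fun x => (φ (x : E)).2) (fun x => (φ' (x : E)).2) e L := by
        intro ε hε
        have h1 : Tendsto (fun p : ↥(π ⁻¹' T) × ↥(π ⁻¹' T) => ((p.1 : E), (p.2 : E))) (𝓝 (e, e))
            (𝓝 ((e : E), (e : E))) := by
          have : Continuous (fun p : ↥(π ⁻¹' T) × ↥(π ⁻¹' T) => ((p.1 : E), (p.2 : E))) := by fun_prop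
          exact this.tendsto (e, e)
        filter_upwards [h1.eventually (hL ε hε)] with p hp hpp
        exact hp (congrArg Subtype.val hpp)
      refine hL'.congr ?_ ?_
      · filter_upwards [ψ.open_source.mem_nhds heψ] with x hx
        exact ((h x hx).2.2).symm
      · filter_upwards [ψ'.open_source.mem_nhds heψ'] with x hx
        exact ((h' x hx).2.2).symm
  obtain ⟨U, hU, hbU, h, h1, h2, h3⟩ := exists_trivialization hA₀ hπ₀ hcl₀ hc₀ hY₀
  -- back to `B`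
  have hmem : ∀ x : ↥(π ⁻¹' (Subtype.val '' U)), π x ∈ T := fun x => by
    obtain ⟨u, -, hu⟩ := x.2
    rw [← hu]
    exact u.2
  have hmem' : ∀ x : ↥(π ⁻¹' (Subtype.val '' U)), (⟨π x, hmem x⟩ : ↥T) ∈ U := fun x => by
    obtain ⟨u, hu', hu⟩ := x.2
    have : (⟨π x, hmem x⟩ : ↥T) = u := Subtype.ext hu.symm
    rw [this]
    exact hu'
  let α : ↥(π ⁻¹' (Subtype.val '' U)) → ↥(π₀ ⁻¹' U) := fun x => ⟨⟨x, hmem x⟩, hmem' x⟩
  let β : ↥(Subtype.val '' U) × ↥(π ⁻¹' {b₀}) → ↥U × ↥(π₀ ⁻¹' {b₁}) := fun q =>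
    (⟨⟨q.1, by obtain ⟨u, -, hu⟩ := q.1.2; rw [← hu]; exact u.2⟩, by
      obtain ⟨u, hu', hu⟩ := q.1.2
      have : (⟨(q.1 : B), by rw [← hu]; exact u.2⟩ : ↥T) = u := Subtype.ext hu.symm
      rw [this]
      exact hu'⟩,
     ⟨⟨q.2, by have := q.2.2; rw [mem_preimage, mem_singleton_iff] at this; rw [mem_preimage, this]; exact hb⟩,
      (hfib _).2 q.2.2⟩)
  have hαe : IsEmbedding α := by
    have h4 : Continuous α := by fun_prop
    refine IsEmbedding.of_comp h4 (continuous_subtype_val.comp continuous_subtype_val) ?_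
    exact IsEmbedding.subtypeVal
  have hβe : IsEmbedding β := by
    have h4 : Continuous β := by fun_prop
    refine IsEmbedding.of_comp (g := fun q : ↥U × ↥(π₀ ⁻¹' {b₁}) => (((q.1 : ↥T) : B), ((q.2 : ↥(π ⁻¹' T)) : E)))
      h4 (by fun_prop) ?_
    exact IsEmbedding.subtypeVal.prodMap IsEmbedding.subtypeVal
  have hαs : range α = univ := by
    rw [eq_univ_iff_forall]
    intro x
    exact ⟨⟨x, ⟨π₀ x, x.2, rfl⟩⟩, rfl⟩
  have hβs : range β = univ := by
    rw [eq_univ_iff_forall]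
    rintro ⟨u, w⟩
    exact ⟨(⟨u, ⟨u, u.2, rfl⟩⟩, ⟨w, (hfib _).1 w.2⟩), rfl⟩
  obtain ⟨e, he⟩ := exists_homeomorph_of_isEmbedding hαe hβe h (fun p => by rw [hαs, hβs]; simp)
  have he1 : ∀ z, ((e z).1 : B) = ((h (α z)).1 : ↥T) := fun z => by rw [← he z]
  have he2 : ∀ z, ((e z).2 : E) = ((h (α z)).2 : ↥(π ⁻¹' T)) := fun z => by rw [← he z]
  refine ⟨Subtype.val '' U, hT.isOpenMap_subtype_val _ hU, ⟨b₁, hbU, rfl⟩, e, fun z => ?_, fun z => ?_,
    fun z hz => ?_⟩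
  · rw [he1, h1]
    rfl
  · rw [he2]
    exact h2 (α z)
  · rw [he2, h3 (α z) (Subtype.ext hz)]

end Groth.Agent.An.H899.LocTrivSep
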