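import Groth.Agent.Picfga.CurveRelDim
import Groth.Agent.Picfga.CurveChart
import Groth.Agent.Ega2.GeoRelDim
import Groth.Agent.Sga4B.RelDimUnique
import Groth.Agent.Etcore.SmoothRed

/-!
# Étale coordinates on a smooth morphism near an irreducible one-dimensional fibre
-/

set_option autoImplicit false
universe u

open CategoryTheory CategoryTheory.Limits AlgebraicGeometry Polynomial

namespace Groth.Agent.An.H899.RelDim

/-- A smooth morphism has relative dimension one near the points of a geometric fibre which is irreducible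
of dimension one; in particular it has an étale coordinate near each such point. -/
theorem exists_etale_chart {X S : Scheme.{u}} (f : X ⟶ S) [Smooth f] (x : X) {Ω : Type u} [Field Ω]
    (σ : Spec (CommRingCat.of Ω) ⟶ S) (p : Spec (CommRingCat.of Ω)) (hx : σ p = f x)
    (hirr : IrreducibleSpace ↥(pullback f σ)) (hdim : topologicalKrullDim ↥(pullback f σ) = 1)
    (W : X.Opens) (hxW : x ∈ W) :
    ∃ (U : S.affineOpens) (V : X.affineOpens) (_ : x ∈ V.1) (_ : V.1 ≤ W) (e : V.1 ≤ f ⁻¹ᵁ U.1)
      (g : Γ(S, U.1)[X] →+* Γ(X, V.1)), g.comp C = (f.appLE U.1 V.1 e).hom ∧ g.Etale := by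
  obtain ⟨U, hU, V, hV, hxV, e, h⟩ := Smooth.exists_isStandardSmooth f x
  obtain ⟨n, hn⟩ := Picfga.CurveRelDim.exists_relativeDimension h
  have h1 : SmoothOfRelativeDimension n (V.ι ≫ f) :=
    Ega2.GeoRelDim.smoothOfRelativeDimension_ι_comp f n U hU V hV e hn
  -- the fibre
  have hred : AlgebraicGeometry.IsReduced (pullback f σ) := Etcore.SmoothRed.isReduced_of_smooth (pullback.snd f σ)
  have hint : IsIntegral (pullback f σ) := isIntegral_of_irreducibleSpace_of_isReduced _
  have h2 : SmoothOfRelativeDimension 1 (pullback.snd f σ) :=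
    Picfga.CurveRelDim.smoothOfRelativeDimension_of_topologicalKrullDim_eq Ω _ _ 1 (by simpa using hdim)
  let P := pullback (V.ι ≫ f) σ
  let j : P ⟶ pullback f σ := pullback.map _ _ _ _ V.ι (𝟙 _) (𝟙 _) (by simp) (by simp)
  have hj : IsOpenImmersion j := inferInstance
  have hjs : j ≫ pullback.snd f σ = pullback.snd (V.ι ≫ f) σ :=
    (pullback.lift_snd _ _ _).trans (Category.comp_id _)
  have h3 : SmoothOfRelativeDimension (0 + 1) (j ≫ pullback.snd f σ) := inferInstance
  rw [hjs, zero_add] at h3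
  have h4 : SmoothOfRelativeDimension n (pullback.snd (V.ι ≫ f) σ) :=
    Ega2.GeoRelDim.relDim_of_isPullback (IsPullback.of_hasPullback _ _) h1
  have hne : Nonempty P := by
    obtain ⟨z, -, -⟩ := Scheme.Pullback.exists_preimage_pullback (f := V.ι ≫ f) (g := σ) ⟨x, hxV⟩ p
      (by rw [hx]; rfl)
    exact ⟨z⟩
  have hn1 : n = 1 := Sga4B.RelDimUnique.eq_of_smoothOfRelativeDimension _ _ _ h4 h3
  subst hn1
  obtain ⟨r, hr, hxr⟩ := hV.exists_basicOpen_le (V := W) ⟨x, hxW⟩ hxV
  obtain ⟨g, hg, hg'⟩ := Picfga.CurveChart.exists_etale_polynomial hn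
  have hle : X.basicOpen r ≤ V := X.basicOpen_le r
  have hloc : IsLocalization.Away r Γ(X, X.basicOpen r) := hV.isLocalization_basicOpen r
  refine ⟨⟨U, hU⟩, ⟨X.basicOpen r, hV.basicOpen r⟩, hxr, hr, hle.trans e,
    (algebraMap Γ(X, V) Γ(X, X.basicOpen r)).comp g, ?_, ?_⟩
  · rw [RingHom.comp_assoc, hg]
    change (f.appLE U V e ≫ X.presheaf.map (homOfLE hle).op).hom = _
    rw [Scheme.Hom.appLE_map]
  · refine RingHom.Etale.stableUnderComposition _ _ hg' ?_
    have : Algebra.Etale Γ(X, V) Γ(X, X.basicOpen r) := Algebra.Etale.of_isLocalizationAway r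
    exact RingHom.etale_algebraMap.mpr this

end Groth.Agent.An.H899.RelDim
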