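import Groth.Agent.An.H554.FibEv
import Groth.Agent.An.H899.Line
import Groth.Agent.An.H899.RelDim
import Groth.Agent.An.H899.LocTrivSep
import Groth.Agent.An.H875.ProperMap
import Groth.Agent.An.H863.PtsSep
import Groth.Agent.An.H879.FiniteClosed
import Groth.Agent.An.H871.Imm

/-!
# Local triviality of smooth proper relative curves with an étale boundary, on complex points
-/

set_option autoImplicit false
open CategoryTheory AlgebraicGeometry Topology TopologicalSpace Opposite Filter Polynomial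
open Groth.Agent.An.H863.PtsBasic Groth.Agent.An.H863.PtsCont Groth.Agent.An.H554.LocTriv

noncomputable section

namespace Groth.Agent.An.H899.Assemble

/-- Fibrewise strict derivatives do not change if functions of the base are subtracted. -/
lemma fibStrict_sub {E B V : Type*} [TopologicalSpace E] [NormedAddCommGroup V] [NormedSpace ℝ V]
    {π : E → B} {f g f' g' : E → V} {e : E} {L : V →L[ℝ] V} (h : FibStrict π f g e L) (a b : B → V)
    (hf : ∀ᶠ x in 𝓝 e, f' x = f x - a (π x)) (hg : ∀ᶠ x in 𝓝 e, g' x = g x - b (π x)) :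
    FibStrict π f' g' e L := by
  intro ε hε
  have h1 : ∀ᶠ p : E × E in 𝓝 (e, e), f' p.1 = f p.1 - a (π p.1) ∧ g' p.1 = g p.1 - b (π p.1) :=
    (continuous_fst.tendsto (e, e)).eventually (hf.and hg)
  have h2 : ∀ᶠ p : E × E in 𝓝 (e, e), f' p.2 = f p.2 - a (π p.2) ∧ g' p.2 = g p.2 - b (π p.2) :=
    (continuous_snd.tendsto (e, e)).eventually (hf.and hg)
  filter_upwards [h ε hε, h1, h2] with p hp h1 h2 hπ
  have h3 := hp hπ
  rw [h1.1, h1.2, h2.1, h2.2, hπ, sub_sub_sub_cancel_right, sub_sub_sub_cancel_right]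
  exact h3

/-- Translation of the second coordinate by a function of the first. -/
def shear {B : Type*} [TopologicalSpace B] (N : Set B) (hN : IsOpen N) (a : B → ℂ) (ha : ContinuousOn a N) :
    OpenPartialHomeomorph (B × ℂ) (B × ℂ) where
  toFun q := (q.1, q.2 - a q.1)
  invFun q := (q.1, q.2 + a q.1)
  source := N ×ˢ Set.univ
  target := N ×ˢ Set.univ
  map_source' q hq := ⟨hq.1, trivial⟩
  map_target' q hq := ⟨hq.1, trivial⟩
  left_inv' q _ := Prod.ext rfl (sub_add_cancel _ _)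
  right_inv' q _ := Prod.ext rfl (add_sub_cancel_right _ _)
  open_source := hN.prod isOpen_univ
  open_target := hN.prod isOpen_univ
  continuousOn_toFun := by
    have h1 : ContinuousOn (fun q : B × ℂ => a q.1) (N ×ˢ Set.univ) :=
      ha.comp continuousOn_fst (fun q hq => hq.1)
    exact continuousOn_fst.prodMk (continuousOn_snd.sub h1)
  continuousOn_invFun := by
    have h1 : ContinuousOn (fun q : B × ℂ => a q.1) (N ×ˢ Set.univ) :=
      ha.comp continuousOn_fst (fun q hq => hq.1)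
    exact continuousOn_fst.prodMk (continuousOn_snd.add h1)

variable {X S : Scheme.{0}} [X.Over An.SC] [S.Over An.SC]

/-- The chart is given by an étale coordinate, up to a function of the base. -/
def Coord (f : X ⟶ S) [f.IsOver An.SC] (φ : OpenPartialHomeomorph (An.Pts X) (An.Pts S × ℂ)) : Prop :=
  ∃ (U : S.Opens) (_ : IsAffineOpen U) (V : X.Opens) (_ : IsAffineOpen V) (e : V ≤ f ⁻¹ᵁ U)
    (g : (Γ(S, U))[X] →+* Γ(X, V)) (_ : g.comp C = (f.appLE U V e).hom) (_ : g.Etale)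
    (a : An.Pts S → ℂ), ∀ z ∈ φ.source, z.pt ∈ V ∧ (φ z).1 = An.Pts.map f z ∧
      (φ z).2 = evAt z V (g Polynomial.X) - a (An.Pts.map f z)

theorem exists_fibStrict (f : X ⟶ S) [f.IsOver An.SC] {φ ψ : OpenPartialHomeomorph (An.Pts X) (An.Pts S × ℂ)}
    (hφ : Coord f φ) (hψ : Coord f ψ) (x : An.Pts X) (hxφ : x ∈ φ.source) (hxψ : x ∈ ψ.source) :
    ∃ L : ℂ →L[ℝ] ℂ, FibStrict (An.Pts.map f) (fun z => (φ z).2) (fun z => (ψ z).2) x L := by
  obtain ⟨U, hU, V, hV, e, g, hg, het, a, ha⟩ := hφ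
  obtain ⟨U', hU', V', hV', e', g', hg', het', a', ha'⟩ := hψ
  obtain ⟨L, hL⟩ := Groth.Agent.An.H554.FibEv.fibStrict f U hU V hV e g hg het x (ha x hxφ).1 V' (ha' x hxψ).1
    (g' Polynomial.X)
  refine ⟨L, fibStrict_sub hL a a' ?_ ?_⟩
  · filter_upwards [φ.open_source.mem_nhds hxφ] with z hz
    exact (ha z hz).2.2
  · filter_upwards [ψ.open_source.mem_nhds hxψ] with z hz
    exact (ha' z hz).2.2

/-- Condition of compatibility with a closed subset. -/
def Adapted (Z : Set (An.Pts X)) (φ : OpenPartialHomeomorph (An.Pts X) (An.Pts S × ℂ)) : Prop :=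
  (∀ x ∈ φ.source, x ∉ Z) ∨ (∀ x ∈ φ.source, x ∈ Z ↔ (φ x).2 = 0)

/-- Charts near the points of a fibre, off the closed subset. -/
theorem exists_chart_off (f : X ⟶ S) [f.IsOver An.SC] [Smooth f] (s : An.Pts S)
    (hirr : IrreducibleSpace ↥(Limits.pullback f s.1)) (hdim : topologicalKrullDim ↥(Limits.pullback f s.1) = 1)
    (W : X.Opens) (x : An.Pts X) (hx : An.Pts.map f x = s) (hxW : x.pt ∈ W) :
    ∃ φ : OpenPartialHomeomorph (An.Pts X) (An.Pts S × ℂ), x ∈ φ.source ∧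
      ∃ (U : S.Opens) (_ : IsAffineOpen U) (V : X.Opens) (_ : IsAffineOpen V) (e : V ≤ f ⁻¹ᵁ U)
        (g : (Γ(S, U))[X] →+* Γ(X, V)) (_ : g.comp C = (f.appLE U V e).hom) (_ : g.Etale), V ≤ W ∧
        ∀ z ∈ φ.source, z.pt ∈ V ∧ φ z = (An.Pts.map f z, evAt z V (g Polynomial.X)) := by
  obtain ⟨U, V, hxV, hVW, e, g, hg, het⟩ := Groth.Agent.An.H899.RelDim.exists_etale_chart f x.pt s.1 An.cpt (by
    rw [← hx]; exact An.Pts.pt_map f x) hirr hdim W hxW
  obtain ⟨φ, hxφ, hφ⟩ := Groth.Agent.An.H899.Line.exists_chart U.2 f V.2 e g hg het x hxV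
  exact ⟨φ, hxφ, U.1, U.2, V.1, V.2, e, g, hg, het, hVW, hφ⟩

/-- Charts at the points of the boundary. -/
theorem exists_chart_on (f : X ⟶ S) [f.IsOver An.SC] [Smooth f] (s : An.Pts S)
    (hirr : IrreducibleSpace ↥(Limits.pullback f s.1)) (hdim : topologicalKrullDim ↥(Limits.pullback f s.1) = 1)
    {Y : Scheme.{0}} [Y.Over An.SC] (i : Y ⟶ X) [i.IsOver An.SC] [IsClosedImmersion i] [Etale (i ≫ f)]
    (y : An.Pts Y) (hy : An.Pts.map f (An.Pts.map i y) = s) :
    ∃ φ : OpenPartialHomeomorph (An.Pts X) (An.Pts S × ℂ), An.Pts.map i y ∈ φ.source ∧ Coord f φ ∧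
      ∀ x ∈ φ.source, x ∈ Set.range (An.Pts.map i) ↔ (φ x).2 = 0 := by
  obtain ⟨φ, hxφ, U, hU, V, hV, e, g, hg, het, -, hφ⟩ :=
    exists_chart_off f s hirr hdim ⊤ (An.Pts.map i y) hy (Opens.mem_top _)
  -- the local section
  have hlh : IsLocalHomeomorph (An.Pts.map (i ≫ f)) := Groth.Agent.An.H866.EtLH.isLocalHomeomorph_map (i ≫ f)
  obtain ⟨τ, hyτ, hτ⟩ := hlh y
  have hτ' : ∀ y', τ y' = An.Pts.map f (An.Pts.map i y') := fun y' => by
    rw [← hτ]; exact An.Pts.map_comp i f y'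
  have hi : IsEmbedding (An.Pts.map i) := (Groth.Agent.An.H871.Imm.isClosedEmbedding_map i).isEmbedding
  obtain ⟨O, hO, hOτ⟩ := (hi.isInducing.isOpen_iff).1 τ.open_source
  let σ : An.Pts S → An.Pts X := fun v => An.Pts.map i (τ.symm v)
  have hσc : ContinuousOn σ τ.target :=
    (An.Pts.continuous_map i).comp_continuousOn τ.continuousOn_symm
  have hσf : ∀ v ∈ τ.target, An.Pts.map f (σ v) = v := fun v hv => by
    change An.Pts.map f (An.Pts.map i (τ.symm v)) = v
    rw [← hτ', τ.right_inv hv]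
  let N : Set (An.Pts S) := τ.target ∩ σ ⁻¹' φ.source
  have hN : IsOpen N := hσc.isOpen_inter_preimage τ.open_target φ.open_source
  let a : An.Pts S → ℂ := fun v => evAt (σ v) V (g Polynomial.X)
  have ha : ContinuousOn a N := by
    intro v hv
    have h1 : ContinuousAt σ v := hσc.continuousAt (τ.open_target.mem_nhds hv.1)
    have h2 := continuousAt_evAt V (g Polynomial.X) (hφ (σ v) hv.2).1
    exact (ContinuousAt.comp (g := fun z => evAt z V (g Polynomial.X)) h2 h1).continuousWithinAt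
  -- the modified chart
  have hO' : IsOpen (O ∩ An.Pts.map f ⁻¹' N) := hO.inter (hN.preimage (An.Pts.continuous_map f))
  let φ' := (φ.restrOpen _ hO').trans (shear N hN a ha)
  have hsrc : ∀ z, z ∈ φ'.source ↔ z ∈ φ.source ∧ z ∈ O ∧ An.Pts.map f z ∈ N := by
    intro z
    rw [OpenPartialHomeomorph.trans_source]
    constructor
    · rintro ⟨⟨h1, h2⟩, -⟩
      exact ⟨h1, h2.1, h2.2⟩
    · rintro ⟨h1, h2, h3⟩
      refine ⟨⟨h1, h2, h3⟩, ?_, trivial⟩
      change (φ z).1 ∈ N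
      rw [(hφ z h1).2]
      exact h3
  have hval : ∀ z ∈ φ'.source, φ' z = (An.Pts.map f z, evAt z V (g Polynomial.X) - a (An.Pts.map f z)) := by
    intro z hz
    change ((φ z).1, (φ z).2 - a (φ z).1) = _
    rw [(hφ z ((hsrc z).1 hz).1).2]
  have hyO : An.Pts.map i y ∈ O := by
    have : y ∈ An.Pts.map i ⁻¹' O := by rw [hOτ]; exact hyτ
    exact this
  have hyt : An.Pts.map f (An.Pts.map i y) ∈ τ.target := by
    rw [← hτ']
    exact τ.map_source hyτ
  have hσy : σ (An.Pts.map f (An.Pts.map i y)) = An.Pts.map i y := by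
    change An.Pts.map i (τ.symm _) = _
    rw [← hτ', τ.left_inv hyτ]
  refine ⟨φ', ?_, ⟨U, hU, V, hV, e, g, hg, het, a, fun z hz => ?_⟩, fun x hx => ?_⟩
  · rw [hsrc]
    refine ⟨hxφ, hyO, hyt, ?_⟩
    rw [Set.mem_preimage, hσy]
    exact hxφ
  · rw [hval z hz]
    exact ⟨(hφ z ((hsrc z).1 hz).1).1, rfl, rfl⟩
  · obtain ⟨h1, h2, h3⟩ := (hsrc x).1 hx
    rw [hval x hx, sub_eq_zero]
    constructor
    · rintro ⟨y', rfl⟩
      have h4 : y' ∈ τ.source := by rw [← hOτ]; exact h2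
      have h5 : σ (An.Pts.map f (An.Pts.map i y')) = An.Pts.map i y' := by
        change An.Pts.map i (τ.symm _) = _
        rw [← hτ', τ.left_inv h4]
      change _ = evAt (σ (An.Pts.map f (An.Pts.map i y'))) V _
      rw [h5]
    · intro h4
      have h5 : φ x = φ (σ (An.Pts.map f x)) := by
        rw [(hφ x h1).2, (hφ _ h3.2).2, hσf _ h3.1, h4]
      have h6 := φ.injOn h1 h3.2 h5
      exact ⟨_, h6.symm⟩

/-- **Local triviality** for smooth proper relative curves with étale boundary. -/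
theorem exists_trivialization_pts (f : X ⟶ S) [f.IsOver An.SC] [Smooth f] [IsProper f] (s : An.Pts S)
    (hirr : IrreducibleSpace ↥(Limits.pullback f s.1)) (hdim : topologicalKrullDim ↥(Limits.pullback f s.1) = 1)
    {Y : Scheme.{0}} [Y.Over An.SC] (i : Y ⟶ X) [i.IsOver An.SC] [IsClosedImmersion i] [Etale (i ≫ f)] :
    ∃ U : Set (An.Pts S), IsOpen U ∧ s ∈ U ∧
      ∃ h : ↥(An.Pts.map f ⁻¹' U) ≃ₜ ↥U × ↥(An.Pts.map f ⁻¹' {s}),
        (∀ z : ↥(An.Pts.map f ⁻¹' U), ((h z).1 : An.Pts S) = An.Pts.map f z) ∧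
        (∀ z : ↥(An.Pts.map f ⁻¹' U), (z : An.Pts X) ∈ Set.range (An.Pts.map i) ↔
          ((h z).2 : An.Pts X) ∈ Set.range (An.Pts.map i)) ∧
        ∀ z : ↥(An.Pts.map f ⁻¹' U), An.Pts.map f z = s → ((h z).2 : An.Pts X) = z := by
  let 𝒞 : Set (OpenPartialHomeomorph (An.Pts X) (An.Pts S × ℂ)) :=
    {φ | Coord f φ ∧ Adapted (Set.range (An.Pts.map i)) φ}
  have hA : Atlas (An.Pts.map f) s (Set.range (An.Pts.map i)) 𝒞 := by
    refine ⟨?_, ?_, fun φ hφ => hφ.2, fun φ hφ ψ hψ e _ h1 h2 => exists_fibStrict f hφ.1 hψ.1 e h1 h2⟩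
    · rintro φ ⟨⟨U, hU, V, hV, e, g, hg, het, a, ha⟩, -⟩ x hx
      exact (ha x hx).2.1
    · intro x hx
      by_cases hxY : x ∈ Set.range (An.Pts.map i)
      · obtain ⟨y, rfl⟩ := hxY
        obtain ⟨φ, h1, h2, h3⟩ := exists_chart_on f s hirr hdim i y hx
        exact ⟨φ, ⟨h2, Or.inr h3⟩, h1⟩
      · have hcl : IsClosed (Set.range i) := i.isClosedEmbedding.isClosed_range
        have hxW : x.pt ∈ (⟨(Set.range i)ᶜ, hcl.isOpen_compl⟩ : X.Opens) := by
          change x.pt ∉ Set.range i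
          rw [Groth.Agent.An.H871.Imm.range_map_of_isClosedImmersion] at hxY
          exact hxY
        obtain ⟨φ, h1, U, hU, V, hV, e, g, hg, het, hVW, hφ⟩ := exists_chart_off f s hirr hdim _ x hx hxW
        refine ⟨φ, ⟨⟨U, hU, V, hV, e, g, hg, het, fun _ => 0, fun z hz => ?_⟩, Or.inl fun z hz hzY => ?_⟩, h1⟩
        · rw [(hφ z hz).2]
          exact ⟨(hφ z hz).1, rfl, (sub_zero _).symm⟩
        · rw [Groth.Agent.An.H871.Imm.range_map_of_isClosedImmersion] at hzY
          exact hVW (hφ z hz).1 hzY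
  have hpm : IsProperMap (An.Pts.map f) := Groth.Agent.An.H875.ProperMap.isProperMap_map f
  have hsep : IsSeparatedMap (An.Pts.map f) := Groth.Agent.An.H863.PtsSep.isSeparatedMap_of_isSeparated f
  have hY : IsClosed (Set.range (An.Pts.map i)) :=
    (Groth.Agent.An.H871.Imm.isClosedEmbedding_map i).isClosed_range
  obtain ⟨U₀, hU₀, hsU₀, -⟩ := exists_isAffineOpen_mem_and_subset (X := S) (x := s.pt) (U := ⊤) trivial
  have hT2 : T2Space ↥(An.Pts.pt ⁻¹' (U₀ : Set S) : Set (An.Pts S)) :=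
    Groth.Agent.An.H879.FiniteClosed.t2Space_of_isAffineOpen hU₀
  exact Groth.Agent.An.H899.LocTrivSep.exists_trivialization_of_isSeparatedMap hA (An.Pts.continuous_map f)
    hpm.isClosedMap hsep (hpm.isCompact_preimage isCompact_singleton) hY _ (An.Pts.isOpen_preimage_pt U₀) hsU₀ hT2

end Groth.Agent.An.H899.Assemble
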